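import Mathlib

/-!
# Embedding finitely many field extensions in a common one; biorthogonal systems
-/

set_option autoImplicit false

universe u

open TensorProduct

namespace Groth.Agent.DiagTensor

theorem exists_common_field (k : Type u) [Field k] (K : ℕ → Type u) [∀ n, Field (K n)] [∀ n, Algebra k (K n)]
    (N : ℕ) : ∃ (Ω : Type u) (_ : Field Ω) (_ : Algebra k Ω), ∀ n < N, Nonempty (K n →ₐ[k] Ω) := by
  induction N with
  | zero => exact ⟨k, inferInstance, inferInstance, fun n hn => absurd hn n.not_lt_zero⟩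
  | succ N ih =>
    obtain ⟨Ω, _, _, h⟩ := ih
    obtain ⟨m, hm⟩ := Ideal.exists_maximal (Ω ⊗[k] K N)
    let q := Ideal.Quotient.mkₐ k m
    refine ⟨(Ω ⊗[k] K N) ⧸ m, Ideal.Quotient.field m, inferInstance, fun n hn => ?_⟩
    rcases Nat.lt_succ_iff_lt_or_eq.1 hn with hn | rfl
    · exact ⟨q.comp (Algebra.TensorProduct.includeLeft.comp (h n hn).some)⟩
    · exact ⟨q.comp Algebra.TensorProduct.includeRight⟩

theorem not_biorthogonal {Ω : Type u} [Field Ω] {N : ℕ} (α β : Fin (N + 1) → Fin N → Ω)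
    (h₁ : ∀ i, ∑ t, α i t * β i t = 1) (h₂ : ∀ i j, i ≠ j → ∑ t, α i t * β j t = 0) : False := by
  classical
  have hli : LinearIndependent Ω α := by
    rw [Fintype.linearIndependent_iff]
    intro c hc j
    have e : ∑ t, (∑ i, c i • α i) t * β j t = c j := by
      simp only [Finset.sum_apply, Pi.smul_apply, smul_eq_mul, Finset.sum_mul, mul_assoc]
      rw [Finset.sum_comm]
      simp only [← Finset.mul_sum]
      rw [Finset.sum_eq_single j (fun i _ hij => by rw [h₂ i j hij, mul_zero]) (by simp), h₁, mul_one]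
    rw [hc] at e
    simpa using e.symm
  have := hli.fintype_card_le_finrank
  simp at this

theorem nonempty_inter (A : Type u) [CommRing A] (k : Type u) [Field k] (K : ℕ → Type u) [∀ n, Field (K n)]
    [∀ n, Algebra k (K n)] (φ : ∀ n, A →+* K n)
    (Φ : ∀ n m, A ⊗[ℤ] A →+* K n ⊗[k] K m) (hΦ : ∀ n m a b, Φ n m (a ⊗ₜ b) = φ n a ⊗ₜ φ m b)
    (μ : A ⊗[ℤ] A →+* A) (hμ : ∀ a b, μ (a ⊗ₜ b) = a * b) :
    (closure (⋃ (n : ℕ) (m : ℕ) (_ : n ≠ m), Set.range (PrimeSpectrum.comap (Φ n m))) ∩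
      Set.range (PrimeSpectrum.comap μ)).Nonempty := by
  by_contra he
  rw [Set.not_nonempty_iff_eq_empty, ← PrimeSpectrum.zeroLocus_vanishingIdeal_eq_closure,
    range_comap_of_surjective _ μ (fun a => ⟨a ⊗ₜ 1, by rw [hμ, mul_one]⟩),
    ← PrimeSpectrum.zeroLocus_union, ← PrimeSpectrum.zeroLocus_span, Ideal.span_union, Ideal.span_eq,
    Ideal.span_eq, PrimeSpectrum.zeroLocus_empty_iff_eq_top, Ideal.eq_top_iff_one, Submodule.mem_sup] at he
  obtain ⟨s, hs, t, ht, hst⟩ := he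
  have h1 : μ s = 1 := by
    rw [← map_one μ, ← hst, map_add, RingHom.mem_ker.1 ht, add_zero]
  obtain ⟨S, hS⟩ := TensorProduct.exists_finset s
  obtain ⟨e⟩ : Nonempty (Fin S.card ≃ S) := ⟨S.equivFin.symm⟩
  have hsum : s = ∑ i, (e i).1.1 ⊗ₜ[ℤ] (e i).1.2 := by
    rw [hS, ← Finset.sum_coe_sort]
    exact (e.sum_comp fun x : S => x.1.1 ⊗ₜ[ℤ] x.1.2).symm
  obtain ⟨Ω, _, _, hσ⟩ := exists_common_field k K (S.card + 1)
  refine not_biorthogonal (Ω := Ω) (fun (n : Fin (S.card + 1)) i => (hσ n n.2).some (φ n (e i).1.1))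
    (fun n i => (hσ n n.2).some (φ n (e i).1.2)) (fun n => ?_) (fun n m hnm => ?_)
  · have := congrArg ((hσ n n.2).some.toRingHom.comp (φ n)) h1
    rw [map_one, hsum] at this
    simpa [map_sum, hμ] using this
  · let ψ := Algebra.TensorProduct.lift (hσ n n.2).some (hσ m m.2).some (fun _ _ => Commute.all _ _)
    have hmem : (⟨RingHom.ker ψ.toRingHom, RingHom.ker_isPrime _⟩ : PrimeSpectrum (K n ⊗[k] K m)).comap (Φ n m) ∈
        ⋃ (n : ℕ) (m : ℕ) (_ : n ≠ m), Set.range (PrimeSpectrum.comap (Φ n m)) :=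
      Set.mem_iUnion.2 ⟨n, Set.mem_iUnion.2 ⟨m, Set.mem_iUnion.2 ⟨fun h => hnm (Fin.ext h), ⟨_, rfl⟩⟩⟩⟩
    have h0 := (PrimeSpectrum.mem_vanishingIdeal _ _).1 hs _ hmem
    rw [PrimeSpectrum.comap_asIdeal, Ideal.mem_comap, RingHom.mem_ker, hsum, map_sum, map_sum] at h0
    simpa [hΦ, ψ] using h0

end Groth.Agent.DiagTensor
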